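import Groth.Prelude.Def_Conn
import Mathlib

/-! # Horizontal maps between induced connections, checked along functionals -/

set_option autoImplicit false
universe v u

open TensorProduct

noncomputable section

namespace Groth.Agent.ConnHoriz

variable {A : Type v} {B Ω M M' M'' : Type u} [CommRing A] [CommRing B] [Algebra A B]
  [AddCommGroup Ω] [Module B Ω]
  [AddCommGroup M] [Module B M] [Module A M] [IsScalarTower A B M]
  [AddCommGroup M'] [Module B M'] [Module A M'] [IsScalarTower A B M']

omit [Module A M] [IsScalarTower A B M] in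
/-- contraction -/
lemma contract_map (θ : Ω →ₗ[B] B) (φ : M →ₗ[B] M') (z : M ⊗[B] Ω) :
    TensorProduct.rid B M' (TensorProduct.map LinearMap.id θ (TensorProduct.map φ LinearMap.id z)) =
      φ (TensorProduct.rid B M (TensorProduct.map LinearMap.id θ z)) := by
  induction z using TensorProduct.induction_on with
  | zero => simp
  | tmul g w => simp
  | add a b ha hb => simp [map_add, ha, hb]

omit [Module A M] [IsScalarTower A B M] in
lemma eq_of_coords {n : Type*} [Fintype n] (bΩ : Module.Basis n B Ω) (z z' : M ⊗[B] Ω)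
    (h : ∀ q, TensorProduct.rid B M (TensorProduct.map LinearMap.id (bΩ.coord q) z) =
      TensorProduct.rid B M (TensorProduct.map LinearMap.id (bΩ.coord q) z')) : z = z' := by
  have key : ∀ z : M ⊗[B] Ω,
      z = ∑ q, TensorProduct.rid B M (TensorProduct.map LinearMap.id (bΩ.coord q) z) ⊗ₜ[B] bΩ q := by
    intro z
    induction z using TensorProduct.induction_on with
    | zero => simp
    | tmul a l =>
      simp_rw [TensorProduct.map_tmul, TensorProduct.rid_tmul, LinearMap.id_apply, TensorProduct.smul_tmul]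
      rw [← TensorProduct.tmul_sum]
      congr 1
      exact (bΩ.sum_repr l).symm
    | add a b ha hb =>
      simp_rw [map_add, TensorProduct.add_tmul, Finset.sum_add_distrib]
      rw [← ha, ← hb]
  rw [key z, key z']
  simp_rw [h]

lemma isHorizontal_of_along [Module.Finite B Ω] [Module.Free B Ω] {nabla : M →ₗ[A] M ⊗[B] Ω}
    {nabla' : M' →ₗ[A] M' ⊗[B] Ω} {φ : M →ₗ[B] M'}
    (h : ∀ (θ : Ω →ₗ[B] B) (m : M), Conn.along nabla' θ (φ m) = φ (Conn.along nabla θ m)) :
    Conn.IsHorizontal nabla nabla' φ := fun m =>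
  eq_of_coords (Module.Free.chooseBasis B Ω) _ _ fun q => by
    rw [contract_map]
    exact h ((Module.Free.chooseBasis B Ω).coord q) m

variable [Module A Ω] [IsScalarTower A B Ω]

omit [IsScalarTower A B Ω] in
lemma along_smul {δ : Derivation A B Ω} {nabla : M →ₗ[A] M ⊗[B] Ω} (hc : Conn.IsConn δ nabla)
    (θ : Ω →ₗ[B] B) (b : B) (m : M) :
    Conn.along nabla θ (b • m) = b • Conn.along nabla θ m + θ (δ b) • m := by
  rw [Conn.along_apply, Conn.along_apply, hc b m, map_add, map_add, map_smul, map_smul]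
  simp

lemma along_triv (δ : Derivation A B Ω) (θ : Ω →ₗ[B] B) (b : B) :
    Conn.along (Conn.triv δ) θ b = θ (δ b) := by
  rw [Conn.along_apply, Conn.triv_apply, TensorProduct.map_tmul, TensorProduct.rid_tmul]
  simp

omit [Module A Ω] [IsScalarTower A B Ω] in
lemma along_hom {nabla : M →ₗ[A] M ⊗[B] Ω} {nabla' : M' →ₗ[A] M' ⊗[B] Ω}
    {nE : (M →ₗ[B] M') →ₗ[A] (M →ₗ[B] M') ⊗[B] Ω} (hE : Conn.IsHomConn nabla nabla' nE)
    (θ : Ω →ₗ[B] B) (f : M →ₗ[B] M') (m : M) :
    Conn.along nE θ f m = Conn.along nabla' θ (f m) - f (Conn.along nabla θ m) := by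
  have h := congrArg (fun z => TensorProduct.rid B M' (TensorProduct.map LinearMap.id θ z)) (hE f m)
  simp only [map_sub, contract_map] at h
  simpa only [Conn.along_apply, LinearMap.applyₗ_apply_apply] using h

omit [Module A Ω] [IsScalarTower A B Ω] in
lemma along_tensor {nabla : M →ₗ[A] M ⊗[B] Ω} {nabla' : M' →ₗ[A] M' ⊗[B] Ω}
    {nT : M ⊗[B] M' →ₗ[A] (M ⊗[B] M') ⊗[B] Ω} (hT : Conn.IsTensorConn nabla nabla' nT)
    (θ : Ω →ₗ[B] B) (m : M) (m' : M') :
    Conn.along nT θ (m ⊗ₜ[B] m') =
      Conn.along nabla θ m ⊗ₜ[B] m' + m ⊗ₜ[B] Conn.along nabla' θ m' := by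
  have h1 : ∀ z : M ⊗[B] Ω, TensorProduct.rid B (M ⊗[B] M') (TensorProduct.map LinearMap.id θ
      (Conn.swapR (z ⊗ₜ[B] m'))) = TensorProduct.rid B M (TensorProduct.map LinearMap.id θ z) ⊗ₜ[B] m' := by
    intro z
    induction z using TensorProduct.induction_on with
    | zero => simp
    | tmul g w => simp [Conn.swapR_tmul, TensorProduct.smul_tmul']
    | add a b ha hb => simp [map_add, TensorProduct.add_tmul, ha, hb]
  have h2 : ∀ z : M' ⊗[B] Ω, TensorProduct.rid B (M ⊗[B] M') (TensorProduct.map LinearMap.id θ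
      ((TensorProduct.assoc B M M' Ω).symm (m ⊗ₜ[B] z))) =
      m ⊗ₜ[B] TensorProduct.rid B M' (TensorProduct.map LinearMap.id θ z) := by
    intro z
    induction z using TensorProduct.induction_on with
    | zero => simp
    | tmul g w => simp [TensorProduct.tmul_smul]
    | add a b ha hb => simp [map_add, TensorProduct.tmul_add, ha, hb]
  rw [Conn.along_apply, hT m m', map_add, map_add, h1, h2, Conn.along_apply, Conn.along_apply]

/-- The trace commutes with the covariant derivative. -/
lemma trace_along [Module.Finite B M] [Module.Free B M] {δ : Derivation A B Ω}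
    {nabla : M →ₗ[A] M ⊗[B] Ω} (hc : Conn.IsConn δ nabla)
    {nE : (M →ₗ[B] M) →ₗ[A] (M →ₗ[B] M) ⊗[B] Ω} (hE : Conn.IsHomConn nabla nabla nE)
    (θ : Ω →ₗ[B] B) (f : M →ₗ[B] M) :
    θ (δ (LinearMap.trace B M f)) = LinearMap.trace B M (Conn.along nE θ f) := by
  classical
  let b := Module.Free.chooseBasis B M
  let Φ : Module.Free.ChooseBasisIndex B M → Module.Free.ChooseBasisIndex B M → B :=
    fun i l => b.repr (f (b l)) i
  let Γ : Module.Free.ChooseBasisIndex B M → Module.Free.ChooseBasisIndex B M → B :=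
    fun i l => b.repr (Conn.along nabla θ (b l)) i
  have hf : ∀ l, f (b l) = ∑ i, Φ i l • b i := fun l => (b.sum_repr _).symm
  have hg : ∀ l, Conn.along nabla θ (b l) = ∑ i, Γ i l • b i := fun l => (b.sum_repr _).symm
  have hcoord : ∀ i, b.repr (Conn.along nE θ f (b i)) i =
      θ (δ (Φ i i)) + ∑ l, Φ l i * Γ i l - ∑ l, Γ l i * Φ i l := by
    intro i
    rw [along_hom hE, map_sub, Finsupp.sub_apply]
    congr 1
    · rw [hf i]
      simp only [map_sum, along_smul hc, map_add, map_smul, Finsupp.add_apply, Finsupp.smul_apply,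
        smul_eq_mul, Finsupp.coe_finsetSum, Finset.sum_apply, Finset.sum_add_distrib,
        Module.Basis.repr_self, Finsupp.single_apply, mul_ite, mul_one, mul_zero, Finset.sum_ite_eq',
        Finset.mem_univ, if_true]
      rw [add_comm]
    · rw [hg i]
      simp only [map_sum, map_smul, Finsupp.coe_finsetSum, Finset.sum_apply, Finsupp.smul_apply, smul_eq_mul]
      rfl
  have ht : ∀ F : M →ₗ[B] M, LinearMap.trace B M F = ∑ i, b.repr (F (b i)) i := fun F => by
    rw [LinearMap.trace_eq_matrix_trace B b, Matrix.trace]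
    simp [LinearMap.toMatrix_apply]
  rw [ht, ht]
  simp only [hcoord, Finset.sum_sub_distrib, Finset.sum_add_distrib, map_sum]
  rw [Finset.sum_comm (f := fun i l => Γ l i * Φ i l)]
  simp only [mul_comm (Γ _ _), add_sub_cancel_right]
  rfl

end Groth.Agent.ConnHoriz
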